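import Groth.Agent.H56.SmoothAmp.Scheme
import Groth.Agent.H56.AmpNhd.Rel
import Groth.Agent.Lib.PushClosed.Unit
import Groth.Agent.Lib.Perfect.FlatPerfect
import Groth.Prelude.Def_KSix

/-!
Amplitude of closed direct images into smooth schemes.
-/

set_option autoImplicit false
set_option linter.style.haveILetI false

universe u

open CategoryTheory CategoryTheory.Limits AlgebraicGeometry HomologicalComplex

attribute [local instance] HasDerivedCategory.standard

namespace Groth.Agent.H56.SmoothAmp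

open Groth.Agent.Lib Groth.Agent.Lib.DerivedOX Groth.Agent.Lib.Modules.StalkModule KFlatBaseChange
open Groth.Agent.Lib.BettiExact TorTensor TorPull
open Groth.Agent.Lib.DR.Basic Groth.Agent.Lib.DR.FiniteComplex Groth.Agent.Lib.DR.PseudoCoherent
open Groth.Agent.Lib.Perfect Groth.Agent.Lib.Perfect.Basic Groth.Agent.Lib.Perfect.PseudoCoh
open Groth.Agent.Lib.DR.BaseChange AmpNhd

variable {X Y S : Scheme.{u}}

theorem hasFlatAmplitudeIn_of_iso {a b : ℤ} {K L : DCoh.D X} (e : K ≅ L) (h : DCoh.HasFlatAmplitudeIn a b K) :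
    DCoh.HasFlatAmplitudeIn a b L := by
  obtain ⟨E, hv, hf, ⟨i⟩⟩ := h
  exact ⟨E, hv, hf, ⟨i ≪≫ e⟩⟩

/-- Away from the image the direct image has every amplitude. -/
theorem torAmpAt_push_off (i : X ⟶ Y) [IsClosedImmersion i] (g : Y ⟶ S) (F : CochainComplex X.Modules ℤ)
    {y : Y} (hy : y ∉ Set.range i) (a b : ℤ) :
    DerSch.HasTorAmplitudeAt g a b ((DerSch.pushCx i).obj F) y := by
  refine (torAmpAt_iff g y _ a b).2 (bdd_zero good_flat ?_ a b)
  refine Functor.map_isZero DerivedCategory.Q ?_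
  rw [IsZero.iff_id_eq_zero]
  ext n : 1
  refine IsZero.eq_of_src ((resF _).map_isZero ?_) _ _
  haveI : Subsingleton (((stC y).obj ((DerSch.pushCx i).obj F)).X n) :=
    PushClosed.Unit.subsingleton_stalk_push i (F.X n) hy
  exact ModuleCat.isZero_of_subsingleton _

/-- Amplitude over the base from amplitude over the local ring, through an open subscheme. -/
theorem torAmpAt_of_local (g : Y ⟶ S) [Flat g] (V : Y.Opens) (G : CochainComplex Y.Modules ℤ) {a b : ℤ}
    (v : (V : Scheme.{u})) (h : DerSch.HasTorAmplitudeAt (𝟙 (V : Scheme.{u})) a b ((rC V.ι).obj G) v) :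
    DerSch.HasTorAmplitudeAt g a b G (V.ι v) := by
  refine AmpNhd.torAmpAt_of_openImm g V.ι G v ?_
  have h' : DerSch.HasTorAmplitudeAt (𝟙 (V : Scheme.{u}) ≫ V.ι ≫ g) a b ((rC V.ι).obj G) v :=
    (torAmpAt_iff _ _ _ _ _).2 (Bdd.of_iso
      (DR.ExactPush.bdd_map (P' := flat (S.presheaf.stalk ((V.ι ≫ g) v))) (resF ((V.ι ≫ g).stalkMap v).hom)
        (fun M hM => TorPush.flat_res_of_flat _ (Flat.stalkMap (V.ι ≫ g) v) M hM)
        ((torAmpAt_iff _ _ _ _ _).1 h))
      (DR.ExactPush.mapQ (resF ((V.ι ≫ g).stalkMap v).hom) _ ≪≫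
        DerivedCategory.Q.mapIso (stOverCompIso (𝟙 _) (V.ι ≫ g) v _)))
  rwa [Category.id_comp] at h'

/-- Amplitude over the local rings gives a flat representative on an open subscheme. -/
theorem flatAmp_restrict_of_torAmp (V : Y.Opens) (G : CochainComplex Y.Modules ℤ) {a b : ℤ}
    (h : ∀ y ∈ V, DerSch.HasTorAmplitudeAt (𝟙 Y) a b G y) :
    DCoh.HasFlatAmplitudeIn a b (DerivedCategory.Q.obj ((DCoh.restrictCx V).obj G)) :=
  TorAmpStalk.flatAmp_of_torAmp fun v =>
    TorRestrict.torAmpAt_restrict (𝟙 Y) (𝟙 (V : Scheme.{u})) V.ι V.ι (by simp) G v (h _ v.2)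

/-- Locally finite tor amplitude over the base is locally finite tor dimension of the direct image. -/
theorem locFinite_iff (i : X ⟶ Y) [IsClosedImmersion i] (g : Y ⟶ S) [Smooth g]
    (F : CochainComplex X.Modules ℤ) :
    DerSch.LocFiniteTorAmplitude (i ≫ g) F ↔
      DCoh.LocHasFiniteTorDim (DCoh.toD Y ((DerSch.pushCx i).obj F)) := by
  let G := (DerSch.pushCx i).obj F
  constructor
  · intro hF y
    suffices hs : ∃ (V : Y.Opens) (a b : ℤ), y ∈ V ∧ ∀ y' ∈ V, DerSch.HasTorAmplitudeAt (𝟙 Y) a b G y' by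
      obtain ⟨V, a, b, hyV, hV⟩ := hs
      refine ⟨V, a, b, hyV, fun F' ⟨e⟩ => ?_⟩
      exact hasFlatAmplitudeIn_of_iso ((RDQ V.ι G).symm ≪≫ (RD V.ι).mapIso e.symm ≪≫ RDQ V.ι F')
        (flatAmp_restrict_of_torAmp V G hV)
    by_cases hy : y ∈ Set.range i
    · obtain ⟨x, rfl⟩ := hy
      obtain ⟨V, a, b, hxV, hV⟩ := hF x
      obtain ⟨T, hT, hTV⟩ := i.isClosedEmbedding.isInducing.isOpen_iff.1 V.isOpen
      obtain ⟨W, n, hyW, hW⟩ := exists_nhd_loss g (i x)
      refine ⟨⟨T, hT⟩ ⊓ W, a - n, b, ⟨?_, hyW⟩, ?_⟩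
      · have : x ∈ i ⁻¹' T := by rw [hTV]; exact hxV
        exact this
      · rintro y' ⟨hy'T, hy'W⟩
        refine hW G y' hy'W a b ?_
        by_cases hy' : y' ∈ Set.range i
        · obtain ⟨x', rfl⟩ := hy'
          refine (torAmpAt_push_iff i g F x' a b).2 (hV x' ?_)
          have : x' ∈ i ⁻¹' T := hy'T
          rw [hTV] at this
          exact this
        · exact torAmpAt_push_off i g F hy' a b
    · exact ⟨⟨(Set.range i)ᶜ, i.isClosedEmbedding.isClosed_range.isOpen_compl⟩, 0, 0, hy,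
        fun y' hy' => torAmpAt_push_off i (𝟙 Y) F hy' 0 0⟩
  · intro h x
    obtain ⟨V, a, b, hyV, hV⟩ := h (i x)
    refine ⟨i ⁻¹ᵁ V, a, b, hyV, fun x' hx' => (torAmpAt_push_iff i g F x' a b).1 ?_⟩
    exact torAmpAt_of_local g V G ⟨i x', hx'⟩ (TorAmpStalk.torAmp_of_flatAmp (hV G ⟨Iso.refl _⟩) _)

/-- A pseudo-coherent object of tor amplitude in `[a, b]` has perfect amplitude in `[a, b]`. -/
theorem hasPerfectAmplitudeIn_of {G : CochainComplex Y.Modules ℤ} {a b : ℤ}
    (hpc : ∀ m, DCoh.IsPseudoCoherentD m (DCoh.toD Y G)) (hamp : DerSch.HasTorAmplitude (𝟙 Y) a b G) :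
    KSix.HasPerfectAmplitudeIn a b (DCoh.toD Y G) := by
  have hflat : DCoh.HasFlatAmplitudeIn a b (DCoh.toD Y G) := TorAmpStalk.flatAmp_of_torAmp hamp
  have hge : (DCoh.toD Y G).IsGE a :=
    (DerivedCategory.isGE_iff _ a).2 fun i hi => isZero_HD_of_hasTorAmplitude _ _ hamp (Or.inl hi)
  have hle : (DCoh.toD Y G).IsLE b :=
    (DerivedCategory.isLE_iff _ b).2 fun i hi => isZero_HD_of_hasTorAmplitude _ _ hamp (Or.inr hi)
  intro x
  obtain ⟨U, j, _, y, E, hy, hE, hEa, ⟨e⟩⟩ := FlatPerfect.exists_ge_of_stalk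
    ((iff_forall _ _).1 (hpc (a - 1)) x) hge
    (fun U j _ y _ => ⟨b, FlatPerfect.bdd_stalk (FlatPerfect.flatAmp_restrict j hflat) y⟩)
  have hleE : (DerivedCategory.Q.obj E).IsLE b :=
    isLE_of_iso' e (DR.ExactPush.isLE_map (Scheme.Modules.restrictFunctor j) hle)
  haveI : E.IsLE b := (DerivedCategory.isLE_Q_obj_iff E b).1 hleE
  haveI : QuasiIso (E.ιTruncLE b) := (CochainComplex.quasiIso_ιTruncLE_iff E b).2 inferInstance
  let T := E.truncLE b
  have hTlf : ∀ i, FlatMod.IsFinLocFree (T.X i) := fun i => by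
    rcases lt_trichotomy i b with h | h | h
    · exact TensorMod.LocFree.of_iso (E.truncLEXIso b i h).symm (hE.2 i)
    · subst h
      exact TensorMod.LocFree.of_iso ((IsLimit.conePointUniqueUpToIso
          (kernelIsKernel (E.d i (i + 1))) (E.cyclesIsKernel i (i + 1) (by simp))) ≪≫
          (E.truncLEXIsoCycles i).symm)
        (Top.isFinLocFree_cycles hE i (fun k hk => CochainComplex.exactAt_of_isLE E i k hk) i le_rfl)
    · exact Stupid.isFinLocFree_isZero (T.isZero_of_isStrictlyLE b i h)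
  have hTv : DCoh.VanishesOutside T a b := fun i hi => by
    by_cases h : b < i
    · exact T.isZero_of_isStrictlyLE b i h
    · have hia : i < a := hi.resolve_right h
      rcases lt_or_eq_of_le (not_lt.1 h) with h' | h'
      · exact (hEa i hia).of_iso (E.truncLEXIso b i h')
      · subst h'
        exact (IsZero.of_mono (E.iCycles i) (hEa i hia)).of_iso (E.truncLEXIsoCycles i)
  let k := j.isoOpensRange.inv
  refine ⟨j.opensRange, ⟨y, hy⟩, fun F ⟨eF⟩ => ⟨(rC k).obj T,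
    fun i hi => (Scheme.Modules.restrictFunctor k).map_isZero (hTv i hi),
    fun i => TensorMod.LocFree.isFinLocFree_restrict k (hTlf i), ⟨?_⟩⟩⟩
  exact (RDQ j.opensRange.ι F).symm ≪≫ (RD j.opensRange.ι).mapIso eF ≪≫
    (Triangle.RDCongr (Scheme.Hom.isoOpensRange_inv_comp j) _).symm ≪≫ Triangle.RDComp k j _ ≪≫
    (RD k).mapIso (e ≪≫ (asIso (DerivedCategory.Q.map (E.ιTruncLE b))).symm) ≪≫ RDQ k T

end Groth.Agent.H56.SmoothAmp
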