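import Groth.Agent.H54.TorPoly
import Groth.Agent.Lib.DR.TensorAmp
import Groth.Agent.H56.RelPC.WETorAmp
import Groth.Agent.Lib.WLocal.RetractLoc

/-!
Tor amplitude of complexes over polynomial rings and their weakly étale algebras.
-/

set_option autoImplicit false
set_option linter.style.haveILetI false

universe u

open CategoryTheory CategoryTheory.Limits CategoryTheory.Pretriangulated
open Groth.Agent.Lib.DR
open Groth.Agent.Lib.DR.Basic Groth.Agent.Lib.DR.FiniteComplex Groth.Agent.Lib.DR.PseudoCoherent
open Groth.Agent.Lib.DR.TorAmp Groth.Agent.Lib.DR.BaseChange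
open Groth.Agent.H54.PCRestrict Groth.Agent.H54.TorPoly
open scoped TensorProduct Polynomial

attribute [local instance] HasDerivedCategory.standard

namespace Groth.Agent.H56.SmoothAmp

variable (S : Type u) [CommRing S]

/-- Restriction of scalars to the constants. -/
noncomputable abbrev rC₀ : ModuleCat.{u} S[X] ⥤ ModuleCat.{u} S :=
  ModuleCat.restrictScalars.{u} (algebraMap S S[X])

/-- Extension of scalars to polynomials. -/
noncomputable abbrev eC₀ : ModuleCat.{u} S ⥤ ModuleCat.{u} S[X] :=
  ModuleCat.extendScalars.{u, u, u} (algebraMap S S[X])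

/-- Multiplication by the variable on restricted modules. -/
noncomputable def mulXNat : rC₀ S ⟶ rC₀ S where
  app M := (rC₀ S).map (ModuleCat.ofHom (LinearMap.lsmul S[X] M Polynomial.X))
  naturality M N f := by
    rw [← Functor.map_comp, ← Functor.map_comp]
    congr 1
    ext m
    exact (f.hom.map_smul Polynomial.X m).symm

/-- `x ⊗ 1 - 1 ⊗ x`. -/
noncomputable def diffNat : rC₀ S ⋙ eC₀ S ⟶ rC₀ S ⋙ eC₀ S where
  app M := (Polynomial.X : S[X]) • 𝟙 ((eC₀ S).obj ((rC₀ S).obj M)) - (eC₀ S).map ((mulXNat S).app M)
  naturality M N f := by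
    simp only [Functor.comp_map, Preadditive.sub_comp, Preadditive.comp_sub, Linear.smul_comp,
      Linear.comp_smul, ← Functor.map_comp, (mulXNat S).naturality f]
    erw [Category.comp_id]

/-- Multiplication. -/
noncomputable def evalNat : rC₀ S ⋙ eC₀ S ⟶ 𝟭 _ :=
  (ModuleCat.extendRestrictScalarsAdj.{u} (algebraMap S S[X])).counit

variable {S}

/-- The presentation of a module over polynomials. -/
theorem exists_seq (M : ModuleCat.{u} S[X]) :
    ∃ w : (diffNat S).app M ≫ (evalNat S).app M = 0, (ShortComplex.mk _ _ w).ShortExact := by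
  letI : Module S M := Module.compHom M (algebraMap S S[X])
  haveI : IsScalarTower S S[X] M := IsScalarTower.of_algebraMap_smul fun _ _ => rfl
  let e := FlatBC.extEquiv S S[X] M
  have hd : ∀ z, e (((diffNat S).app M).hom z) = diff S M (e z) := by
    intro z
    refine TensorProduct.induction_on z ?_ (fun p m => ?_) (fun x y hx hy => ?_)
    · exact (congrArg e (map_zero ((diffNat S).app M).hom)).trans ((map_zero e).trans
        ((map_zero (diff S M)).symm.trans (congrArg (diff S M) (map_zero e).symm)))
    · have h1 : ((diffNat S).app M).hom (p ⊗ₜ m) =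
          (show ((rC₀ S).obj (ModuleCat.of S[X] S[X])) from (Polynomial.X : S[X]) * (show S[X] from p)) ⊗ₜ m -
            p ⊗ₜ (show ((rC₀ S).obj M) from (Polynomial.X : S[X]) • (show M from m)) := rfl
      exact (congrArg e h1).trans ((map_sub e _ _).trans (diff_tmul S M p m).symm)
    · exact (congrArg e (map_add ((diffNat S).app M).hom x y)).trans ((map_add e _ _).trans
        ((congrArg₂ (· + ·) hx hy).trans ((map_add (diff S M) _ _).symm.trans
          (congrArg (diff S M) (map_add e x y).symm))))
  have he : ∀ z, ((evalNat S).app M).hom z = evalMap S M (e z) := by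
    intro z
    refine TensorProduct.induction_on z ?_ (fun p m => ?_) (fun x y hx hy => ?_)
    · exact (map_zero ((evalNat S).app M).hom).trans
        ((map_zero (evalMap S M)).symm.trans (congrArg (evalMap S M) (map_zero e).symm))
    · exact (evalMap_tmul S M p m).symm
    · exact (map_add ((evalNat S).app M).hom x y).trans ((congrArg₂ (· + ·) hx hy).trans
        ((map_add (evalMap S M) _ _).symm.trans (congrArg (evalMap S M) (map_add e x y).symm)))
  have hzero : ∀ z, evalMap S M (diff S M z) = 0 := fun z => by
    induction z using TensorProduct.induction_on with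
    | zero => simp
    | add x y hx hy => rw [map_add, map_add, hx, hy, add_zero]
    | tmul p m => rw [diff_tmul, map_sub, evalMap_tmul, evalMap_tmul, ← mul_smul, mul_comm, sub_self]
  have w : (diffNat S).app M ≫ (evalNat S).app M = 0 := ModuleCat.hom_ext (LinearMap.ext fun z => by
    show ((evalNat S).app M).hom (((diffNat S).app M).hom z) = 0
    rw [he, hd, hzero])
  refine ⟨w, { exact := ?_, mono_f := ?_, epi_g := ?_ }⟩
  · rw [ShortComplex.moduleCat_exact_iff]
    intro z hz
    change ((evalNat S).app M).hom z = 0 at hz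
    rw [he] at hz
    refine ⟨e.symm (homot S M (e z)), e.injective ?_⟩
    show e (((diffNat S).app M).hom _) = e z
    rw [hd, LinearEquiv.apply_symm_apply]
    have := split_apply S M (e z)
    rwa [hz, TensorProduct.tmul_zero, add_zero] at this
  · refine (ModuleCat.mono_iff_injective _).2 fun x y hxy => e.injective ?_
    refine Function.LeftInverse.injective (g := homot S M) (homot_diff S M) ?_
    rw [← hd, ← hd]
    exact congrArg e hxy
  · refine (ModuleCat.epi_iff_surjective _).2 fun (m : M) => ⟨e.symm ((1 : S[X]) ⊗ₜ m), ?_⟩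
    show ((evalNat S).app M).hom _ = m
    rw [he, LinearEquiv.apply_symm_apply, evalMap_tmul, one_smul]

/-- Tor amplitude over the polynomial ring in one variable. -/
theorem bdd_flat_polynomial (K : Dual.D S[X]) {a b : ℤ}
    (h : Bdd (flat S) a b ((DRing.restrictD (algebraMap S S[X])).obj K)) :
    Bdd (flat S[X]) (a - 1) b K := by
  let E := DerivedCategory.Q.objPreimage K
  let eE : DerivedCategory.Q.obj E ≅ K := DerivedCategory.Q.objObjPreimageIso K
  let Φ := rC₀ S ⋙ eC₀ S
  let d := (NatTrans.mapHomologicalComplex (diffNat S) (ComplexShape.up ℤ)).app E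
  let ε : (Φ.mapHomologicalComplex (ComplexShape.up ℤ)).obj E ⟶ E :=
    { f := fun i => (evalNat S).app (E.X i)
      comm' := fun i j _ => ((evalNat S).naturality (E.d i j)).symm }
  have w : d ≫ ε = 0 := HomologicalComplex.hom_ext _ _ fun i => (exists_seq (E.X i)).1
  have hT : (ShortComplex.mk d ε w).ShortExact :=
    HomologicalComplex.shortExact_of_degreewise_shortExact _ fun i => (exists_seq (E.X i)).2
  haveI : PreservesFiniteLimits (eC₀ S) :=
    ModuleCat.preservesFiniteLimits_extendScalars_of_flat ((RingHom.flat_algebraMap_iff).2 inferInstance)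
  haveI : PreservesColimitsOfSize.{0, 0} (eC₀ S) :=
    (ModuleCat.extendRestrictScalarsAdj.{u} (algebraMap S S[X])).leftAdjoint_preservesColimits
  haveI : PreservesFiniteColimits (eC₀ S) := PreservesColimitsOfSize.preservesFiniteColimits _
  have h₁ : Bdd (flat S[X]) a b (DerivedCategory.Q.obj ((Φ.mapHomologicalComplex (ComplexShape.up ℤ)).obj E)) :=
    (ExactPush.bdd_map (eC₀ S) (fun M hM => ext_flat _ M hM)
      (h.of_iso ((DRing.restrictD _).mapIso eE.symm ≪≫ ExactPush.mapQ (rC₀ S) E))).of_iso
      (ExactPush.mapQ (eC₀ S) _)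
  exact (bdd_flat_cone _ (DerivedCategory.triangleOfSES_distinguished hT)
    (h₁.mono (by lia) (by lia)) (h₁.mono (by lia) le_rfl)).of_iso eE

/-- Transport along a bijective ring map. -/
theorem bdd_flat_of_bijective {A B : Type u} [CommRing A] [CommRing B] (g : A →+* B) (hg : Function.Bijective g)
    (K : Dual.D B) {a b : ℤ} (h : Bdd (flat A) a b ((DRing.restrictD g).obj K)) : Bdd (flat B) a b K := by
  letI := g.toAlgebra
  haveI : Algebra.Etale A B := RingHom.etale_algebraMap.1 (RingHom.Etale.of_bijective hg)
  exact (RelPC.WETorAmp.bdd_flat_res_iff K a b).1 h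

/-- Tor amplitude over polynomial rings. -/
theorem bdd_flat_mvPolynomial {A : Type u} [CommRing A] : ∀ (k : ℕ) (K : Dual.D (MvPolynomial (Fin k) A))
    (a b : ℤ), Bdd (flat A) a b ((DRing.restrictD MvPolynomial.C).obj K) →
      Bdd (flat (MvPolynomial (Fin k) A)) (a - k) b K := by
  intro k
  induction k with
  | zero =>
    intro K a b h
    rw [Nat.cast_zero, sub_zero]
    exact bdd_flat_of_bijective _ (MvPolynomial.isEmptyRingEquiv A (Fin 0)).symm.bijective K h
  | succ k ih =>
    intro K a b h
    let e : Polynomial (MvPolynomial (Fin k) A) ≃+* MvPolynomial (Fin (k + 1)) A :=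
      (MvPolynomial.finSuccEquiv A k).toRingEquiv.symm
    let K₁ := (DRing.restrictD e.toRingHom).obj K
    obtain ⟨i₁⟩ := restrictD_comp Polynomial.C e.toRingHom K
    obtain ⟨i₂⟩ := restrictD_comp MvPolynomial.C
      (Polynomial.C : MvPolynomial (Fin k) A →+* _) K₁
    obtain ⟨i₃⟩ := restrictD_comp
      ((Polynomial.C : MvPolynomial (Fin k) A →+* _).comp MvPolynomial.C) e.toRingHom K
    have hC : e.toRingHom.comp ((Polynomial.C : MvPolynomial (Fin k) A →+* _).comp MvPolynomial.C) =
        MvPolynomial.C := RingHom.ext fun r => by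
      refine e.symm.injective ?_
      show e.symm (e _) = _
      rw [e.symm_apply_apply]
      simp [e, MvPolynomial.finSuccEquiv_apply]
    rw [← hC] at h
    have h1 := ih ((DRing.restrictD Polynomial.C).obj K₁) a b (h.of_iso (i₃ ≪≫ i₂))
    have h2 : Bdd (flat (Polynomial (MvPolynomial (Fin k) A))) (a - k - 1) b K₁ :=
      bdd_flat_polynomial K₁ h1
    rw [Nat.cast_succ, show a - ((k : ℤ) + 1) = a - k - 1 by lia]
    exact bdd_flat_of_bijective e.toRingHom e.bijective K h2

/-- Tor amplitude over a weakly étale algebra over polynomials. -/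
theorem bdd_flat_chart {A B : Type u} [CommRing A] [CommRing B] {k : ℕ}
    [Algebra (MvPolynomial (Fin k) A) B] [Algebra.WeaklyEtale (MvPolynomial (Fin k) A) B]
    (K : Dual.D B) {a b : ℤ}
    (h : Bdd (flat A) a b ((DRing.restrictD
      ((algebraMap (MvPolynomial (Fin k) A) B).comp MvPolynomial.C)).obj K)) :
    Bdd (flat B) (a - k) b K := by
  obtain ⟨i⟩ := restrictD_comp MvPolynomial.C (algebraMap (MvPolynomial (Fin k) A) B) K
  exact (RelPC.WETorAmp.bdd_flat_res_iff K _ _).1 (bdd_flat_mvPolynomial k _ a b (h.of_iso i))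

end Groth.Agent.H56.SmoothAmp
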