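import Groth.Agent.H56.SmoothAmp.Poly
import Groth.Agent.H56.AmpNhd.Local
import Groth.Agent.Lib.BettiExact.TorAmpStalk
import Groth.Agent.H19.FlatLocus.Scheme
import Mathlib.AlgebraicGeometry.Morphisms.Smooth

/-!
Tor amplitude along smooth morphisms.
-/

set_option autoImplicit false
set_option linter.style.haveILetI false

universe u

open CategoryTheory CategoryTheory.Limits AlgebraicGeometry

attribute [local instance] HasDerivedCategory.standard

namespace Groth.Agent.H56.SmoothAmp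

open Groth.Agent.Lib Groth.Agent.Lib.DerivedOX Groth.Agent.Lib.Modules.StalkModule KFlatBaseChange
open Groth.Agent.Lib.BettiExact TorTensor TorPull
open Groth.Agent.Lib.DR.Basic Groth.Agent.Lib.DR.FiniteComplex Groth.Agent.Lib.DR.PseudoCoherent

variable {Y S : Scheme.{u}}

/-- Tor amplitude over the local ring from that over the base, on an étale chart. -/
theorem torAmpAt_id_of_chart (g : Y ⟶ S) {W : Y.Opens} (hW : IsAffineOpen W) {V : S.Opens}
    (hV : IsAffineOpen V) (e : W ≤ g ⁻¹ᵁ V) {n : ℕ} (φ : MvPolynomial (Fin n) Γ(S, V) →+* Γ(Y, W))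
    (hφ : φ.Etale) (hC : φ.comp MvPolynomial.C = (g.appLE V W e).hom) (G : CochainComplex Y.Modules ℤ)
    {y : Y} (hy : y ∈ W) {a b : ℤ} (h : DerSch.HasTorAmplitudeAt g a b G y) :
    DerSch.HasTorAmplitudeAt (𝟙 Y) (a - n) b G y := by
  refine (TorAmpStalk.bdd_iff G (a - n) b y).2 ?_
  have hgy : g y ∈ V := e hy
  let σ := (Y.presheaf.germ W y hy).hom
  let τ := (S.presheaf.germ V (g y) hgy).hom
  letI : Algebra Γ(Y, W) (Y.presheaf.stalk y) := σ.toAlgebra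
  haveI := hW.isLocalization_stalk ⟨y, hy⟩
  letI : Algebra (MvPolynomial (Fin n) Γ(S, V)) Γ(Y, W) := φ.toAlgebra
  haveI : Algebra.Etale (MvPolynomial (Fin n) Γ(S, V)) Γ(Y, W) := hφ
  letI : Algebra (MvPolynomial (Fin n) Γ(S, V)) (Y.presheaf.stalk y) := (σ.comp φ).toAlgebra
  haveI : IsScalarTower (MvPolynomial (Fin n) Γ(S, V)) Γ(Y, W) (Y.presheaf.stalk y) :=
    .of_algebraMap_eq fun _ => rfl
  haveI : Algebra.WeaklyEtale Γ(Y, W) (Y.presheaf.stalk y) :=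
    WLocal.RetractLoc.weaklyEtale_of_isLocalization _ (hW.primeIdealOf ⟨y, hy⟩).asIdeal.primeCompl
  haveI : Algebra.WeaklyEtale (MvPolynomial (Fin n) Γ(S, V)) (Y.presheaf.stalk y) :=
    Algebra.WeaklyEtale.trans _ Γ(Y, W) _
  refine bdd_flat_chart (A := Γ(S, V)) (k := n) (DerivedCategory.Q.obj ((stC y).obj G)) ?_
  have hsq : ((algebraMap (MvPolynomial (Fin n) Γ(S, V)) (Y.presheaf.stalk y)).comp MvPolynomial.C) =
      (g.stalkMap y).hom.comp τ := RingHom.ext fun s => by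
    show σ ((φ.comp MvPolynomial.C) s) = _
    rw [hC]
    exact (H19.FlatLocus.Scheme.germ_appLE g e hy s).symm
  rw [hsq]
  obtain ⟨i⟩ := H54.PCRestrict.restrictD_comp τ (g.stalkMap y).hom (DerivedCategory.Q.obj ((stC y).obj G))
  have hτ : τ.Flat := by
    letI : Algebra Γ(S, V) (S.presheaf.stalk (g y)) := τ.toAlgebra
    haveI := hV.isLocalization_stalk ⟨g y, hgy⟩
    exact IsLocalization.flat _ (hV.primeIdealOf ⟨g y, hgy⟩).asIdeal.primeCompl
  exact (H54.TorPoly.bdd_flat_res hτ (((torAmpAt_iff g y G a b).1 h).of_iso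
    (DR.ExactPush.mapQ (resF (g.stalkMap y).hom) _).symm)).of_iso i.symm

/-- The bound on the loss of amplitude near a point. -/
theorem exists_nhd_loss (g : Y ⟶ S) [Smooth g] (y : Y) :
    ∃ (W : Y.Opens) (n : ℕ), y ∈ W ∧ ∀ (G : CochainComplex Y.Modules ℤ), ∀ y' ∈ W, ∀ a b : ℤ,
      DerSch.HasTorAmplitudeAt g a b G y' → DerSch.HasTorAmplitudeAt (𝟙 Y) (a - n) b G y' := by
  obtain ⟨V, hV, W, hW, hy, e, hstd⟩ := Smooth.exists_isStandardSmooth g y
  obtain ⟨n, φ, hC, hφ⟩ := hstd.exists_etale_mvPolynomial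
  exact ⟨W, n, hy, fun G y' hy' a b h => torAmpAt_id_of_chart g hW hV e φ hφ hC G hy' h⟩

/-- The loss of amplitude is at most the relative dimension. -/
theorem torAmpAt_id_of_relDim (g : Y ⟶ S) (U : Y.Opens) (n : ℕ) [SmoothOfRelativeDimension n (U.ι ≫ g)]
    (G : CochainComplex Y.Modules ℤ) {y : Y} (hy : y ∈ U) {a b : ℤ}
    (h : DerSch.HasTorAmplitudeAt g a b G y) : DerSch.HasTorAmplitudeAt (𝟙 Y) (a - n) b G y := by
  obtain ⟨V, hV, W, hW, hu, e, hstd⟩ :=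
    SmoothOfRelativeDimension.exists_isStandardSmoothOfRelativeDimension (n := n) (f := U.ι ≫ g)
      (⟨y, hy⟩ : (U : Scheme.{u}))
  obtain ⟨φ, hC, hφ⟩ := hstd.exists_etale_mvPolynomial
  have h' := torAmpAt_id_of_chart (U.ι ≫ g) hW hV e φ hφ hC ((Perfect.Basic.rC U.ι).obj G) hu
    (TorRestrict.torAmpAt_restrict g (U.ι ≫ g) U.ι (𝟙 S) (Category.comp_id _).symm G _ h)
  refine AmpNhd.torAmpAt_of_openImm (𝟙 Y) U.ι G ⟨y, hy⟩ ?_
  rw [Category.comp_id]
  have h'' : DerSch.HasTorAmplitudeAt (𝟙 (U : Scheme.{u}) ≫ U.ι) (a - n) b ((Perfect.Basic.rC U.ι).obj G)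
      ⟨y, hy⟩ := (torAmpAt_iff _ _ _ _ _).2 (Bdd.of_iso
    (DR.ExactPush.bdd_map (P' := flat (Y.presheaf.stalk (U.ι ⟨y, hy⟩)))
      (resF (U.ι.stalkMap ⟨y, hy⟩).hom)
      (fun M hM => TorPush.flat_res_of_flat _ (Flat.stalkMap U.ι ⟨y, hy⟩) M hM)
      ((torAmpAt_iff _ _ _ _ _).1 h'))
    (DR.ExactPush.mapQ (resF (U.ι.stalkMap ⟨y, hy⟩).hom) _ ≪≫
      DerivedCategory.Q.mapIso (stOverCompIso (𝟙 _) U.ι ⟨y, hy⟩ _)))
  rwa [Category.id_comp] at h''

end Groth.Agent.H56.SmoothAmp
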